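import Groth.Agent.Lib.GrLCSheaf21.Flasque
import Groth.Agent.Lib.GrLC21.Coh
import Groth.Agent.Lib.GrMod11.Exact
import Groth.Agent.Lib.CohFound.AugRes

/-!
# The flasque resolution of `M(e)~` coming from a *injective resolution of `M`
-/

set_option autoImplicit false
set_option linter.unusedSectionVars false
set_option backward.isDefEq.respectTransparency false

open CategoryTheory AlgebraicGeometry TopologicalSpace Opposite DirectSum

universe u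

noncomputable section

namespace Groth.Agent.GrLCSheaf21

open _root_.GrMod Groth.Agent.GrMod11

/-- Exactness of abelian sheaves from local lifts. -/
theorem exact_of_local {X : TopCat.{u}} {S : ShortComplex (CohTop.Ab X)}
    (hex : ∀ (U : Opens X) (s : S.X₂.obj.obj (op U)), S.g.hom.app (op U) s = 0 → ∀ x ∈ U,
      ∃ (V : Opens X) (hV : V ≤ U), x ∈ V ∧ ∃ t, S.f.hom.app (op V) t = S.X₂.obj.map (homOfLE hV).op s) :
    S.Exact := by
  rw [ShortComplex.exact_iff_epi_kernel_lift]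
  refine CohFound.epi_of_locally_lift _ fun U s x hx => ?_
  obtain ⟨V, hV, hxV, t, ht⟩ := hex U ((Limits.kernel.ι S.g).hom.app (op U) s) (by
    exact congrArg (fun φ : Limits.kernel S.g ⟶ S.X₃ => φ.hom.app (op U) s) (Limits.kernel.condition S.g)) x hx
  refine ⟨V, hV, hxV, t, CohFound.injective_app_of_mono (Limits.kernel.ι S.g) V ?_⟩
  have e : (Limits.kernel.ι S.g).hom.app (op V) ((Limits.kernel.lift S.g S.f S.zero).hom.app (op V) t) =
      S.f.hom.app (op V) t :=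
    congrArg (fun φ : S.X₁ ⟶ S.X₂ => φ.hom.app (op V) t) (Limits.kernel.lift_ι S.g S.f S.zero)
  rw [e, ht]
  exact (NatTrans.naturality_apply (Limits.kernel.ι S.g).hom (homOfLE hV).op s).symm

variable {A σ σ' : Type u} [CommRing A] [SetLike σ A] [AddSubgroupClass σ A] {𝒜 : ℕ → σ} [GradedRing 𝒜]
  [SetLike σ' A] [AddSubgroupClass σ' A] {ℬ : ℤ → σ'} [GradedRing ℬ] {ι : Type} {xs : ι → A}
variable {M τ : Type u} [AddCommGroup M] [Module A M] [SetLike τ M] [AddSubgroupClass τ M] {𝒩 : ℤ → τ}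
  [Decomposition 𝒩] [SetLike.GradedSMul ℬ 𝒩] [SetLike.GradedSMul 𝒜 (nat 𝒩)]
variable {M' τ' : Type u} [AddCommGroup M'] [Module A M'] [SetLike τ' M'] [AddSubgroupClass τ' M'] {𝒩' : ℤ → τ'}
  [Decomposition 𝒩'] [SetLike.GradedSMul ℬ 𝒩'] [SetLike.GradedSMul 𝒜 (nat 𝒩')]
variable {M'' τ'' : Type u} [AddCommGroup M''] [Module A M''] [SetLike τ'' M''] [AddSubgroupClass τ'' M'']
  {𝒩'' : ℤ → τ''} [Decomposition 𝒩''] [SetLike.GradedSMul ℬ 𝒩''] [SetLike.GradedSMul 𝒜 (nat 𝒩'')]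

section Maps

variable (𝒜) in
/-- `M(e)~` as a sheaf of abelian groups. -/
abbrev shf (𝒩 : ℤ → τ) [SetLike.GradedSMul 𝒜 (nat 𝒩)] (e : ℤ) : CohTop.Ab (CohFound.sp (Proj 𝒜)) :=
  (CohFound.abF (Proj 𝒜)).obj (_root_.GrMod.tilde 𝒜 (nat 𝒩) e)

variable (𝒜) in
/-- The morphism of a homogeneous map. -/
def mapS {u : M →ₗ[A] M'} (hu : GrLC.IsGrHom 𝒩 𝒩' u) (e : ℤ) : shf 𝒜 𝒩 e ⟶ shf 𝒜 𝒩' e :=
  (CohFound.abF (Proj 𝒜)).map (_root_.GrMod.map 𝒜 u (fun i m hm => hu (i : ℤ) m hm) e)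

theorem val_mapS {u : M →ₗ[A] M'} (hu : GrLC.IsGrHom 𝒩 𝒩' u) (e : ℤ) {U : (Proj 𝒜).Opens}
    (s : Sec (ℳ := nat 𝒩) e U) (x : ProjectiveSpectrum 𝒜) (hx : x ∈ U) :
    val (n := e) (ℳ := nat 𝒩') ((mapS 𝒜 hu e).hom.app (op U) s) x hx = locMap u x (val s x hx) := rfl

theorem mapS_glob (hb : Base 𝒜 ℬ xs) {u : M →ₗ[A] M'} (hu : GrLC.IsGrHom 𝒩 𝒩' u) {e : ℤ}
    (U : (Proj 𝒜).Opens) {m : M} (hm : m ∈ 𝒩 e) :
    (mapS 𝒜 hu e).hom.app (op U) (glob hb U hm) = glob hb U (hu e m hm) :=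
  sec_ext (n := e) (ℳ := nat 𝒩') fun x hx => by
    rw [val_mapS, val_glob, locMap_mkx]
    rfl

theorem mapS_comp_eq_zero {u : M →ₗ[A] M'} {v : M' →ₗ[A] M''} (hu : GrLC.IsGrHom 𝒩 𝒩' u)
    (hv : GrLC.IsGrHom 𝒩' 𝒩'' v) (h : ∀ m, v (u m) = 0) (e : ℤ) : mapS 𝒜 hu e ≫ mapS 𝒜 hv e = 0 := by
  apply Sheaf.hom_ext
  refine NatTrans.ext (funext fun U => ?_)
  ext s
  refine sec_ext (n := e) (ℳ := nat 𝒩'') fun x hx => ?_
  show val (n := e) (ℳ := nat 𝒩'') ((mapS 𝒜 hv e).hom.app (op U.unop) ((mapS 𝒜 hu e).hom.app (op U.unop) s)) x hx = 0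
  rw [val_mapS hv, val_mapS hu]
  generalize val (n := e) (ℳ := nat 𝒩) (s : Sec (ℳ := nat 𝒩) e U.unop) x hx = q
  induction q using LocalizedModule.induction_on with
  | h m t => rw [GrMod.locMap_mk, GrMod.locMap_mk, h, LocalizedModule.zero_mk]

theorem injective_mapS {u : M →ₗ[A] M'} (hu : GrLC.IsGrHom 𝒩 𝒩' u) (hinj : Function.Injective u) (e : ℤ)
    (U : (Proj 𝒜).Opens) : Function.Injective ((mapS 𝒜 hu e).hom.app (op U)) := by
  refine (injective_iff_map_eq_zero _).2 fun s hs => sec_ext (n := e) (ℳ := nat 𝒩) fun x hx => ?_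
  have h0 : locMap u x (val (s : Sec (ℳ := nat 𝒩) e U) x hx) = 0 :=
    (val_mapS hu e s x hx).symm.trans (congrArg (fun t : Sec (ℳ := nat 𝒩') e U => val t x hx) hs)
  show val (s : Sec (ℳ := nat 𝒩) e U) x hx = 0
  rcases exists_frac 𝒜 (nat 𝒩) (val_mem (s : Sec (ℳ := nat 𝒩) e U) x hx) with h | ⟨i, j, a, g, hg, -, -, -, h⟩
  · exact h
  · rw [h, locMap_mkx, mkx_eq_zero_iff] at h0
    obtain ⟨w, hw, hwa⟩ := h0
    rw [h, mkx_eq_zero_iff]
    exact ⟨w, hw, hinj (by rw [map_smul, hwa, map_zero])⟩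

theorem exists_local_lift (hb : Base 𝒜 ℬ xs) {u : M →ₗ[A] M'} {v : M' →ₗ[A] M''}
    (hu : GrLC.IsGrHom 𝒩 𝒩' u) (hv : GrLC.IsGrHom 𝒩' 𝒩'' v) (h : LinearMap.ker v = LinearMap.range u) (e : ℤ)
    (U : (Proj 𝒜).Opens) (s : Sec (ℳ := nat 𝒩') e U) (hs : (mapS 𝒜 hv e).hom.app (op U) s = 0)
    (x : ProjectiveSpectrum 𝒜) (hx : x ∈ U) :
    ∃ (V : (Proj 𝒜).Opens) (hV : V ≤ U), x ∈ V ∧
      ∃ t, (mapS 𝒜 hu e).hom.app (op V) t = (shf 𝒜 𝒩' e).obj.map (homOfLE hV).op s := by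
  obtain ⟨d, i, g, a, hd, hg, ha, hdeg, hxg, hgU, hval⟩ := exists_local_frac 𝒜 (nat 𝒩') s x hx
  obtain ⟨N, hN⟩ := exists_pow_smul_eq_zero hb hd hg (hv (i : ℤ) a ha) fun y hy => by
    have h0 : locMap v y (val s y (hgU hy)) = 0 :=
      (val_mapS hv e s y (hgU hy)).symm.trans (congrArg (fun t : Sec (ℳ := nat 𝒩'') e U => val t y (hgU hy)) hs)
    rw [hval y (hgU hy) hy, locMap_mkx, mkx_eq_zero_iff] at h0
    exact h0
  have hpow : g ^ N ∈ 𝒜 (N * d) := GrTw11.pow_mem_smul 𝒜 hg N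
  have hNa : g ^ N • a ∈ 𝒩' ((N * d + i : ℕ) : ℤ) := by
    rw [Nat.cast_add]
    exact smul_memZ hb hpow ha
  obtain ⟨m, hm, hum⟩ := GrLC21.exists_homogeneous_preimage hu hNa (h.le (LinearMap.mem_ker.2 (by rw [map_smul, hN])))
  refine ⟨Proj.basicOpen 𝒜 g, hgU, hxg, frac 𝒜 (ℳ := nat 𝒩) (n := e) _ (i := N * d + i) hm
    (GrTw11.pow_mem_smul 𝒜 hg (N + 1)) (Or.inl (by rw [Nat.cast_add, hdeg]; push_cast; ring))
    (fun y hy => GrTw11.pow_notMem 𝒜 hy _), sec_ext (n := e) (ℳ := nat 𝒩') fun y hy => ?_⟩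
  rw [val_mapS]
  show locMap u y (mkx 𝒜 y m (g ^ (N + 1)) _) = val s y (hgU hy)
  rw [locMap_mkx, hum, hval y (hgU hy) hy]
  exact (mkx_eq_iff 𝒜 _ _).2 ⟨1, one_nin y, by simp only [one_smul, smul_smul, pow_succ']⟩

end Maps

section Res

variable [IsNoetherianRing A] [NoetherianSpace (Proj 𝒜)] (hb : Base 𝒜 ℬ xs) (E : GrLC.StarInjRes ℬ 𝒩) (e : ℤ)

/-- The terms. -/
def resObj (n : ℕ) : CohTop.Ab (CohFound.sp (Proj 𝒜)) :=
  haveI := nSMul (𝒩 := (E.X n).gr) hb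
  shf 𝒜 (E.X n).gr e

/-- The differentials. -/
def resD (n : ℕ) : resObj hb E e n ⟶ resObj hb E e (n + 1) :=
  haveI := nSMul (𝒩 := (E.X n).gr) hb
  haveI := nSMul (𝒩 := (E.X (n + 1)).gr) hb
  mapS 𝒜 (E.d_grHom n) e

/-- The augmentation. -/
def resι : shf 𝒜 𝒩 e ⟶ resObj hb E e 0 :=
  haveI := nSMul (𝒩 := (E.X 0).gr) hb
  mapS 𝒜 E.ε_grHom e

theorem resD_resD (n : ℕ) : resD hb E e n ≫ resD hb E e (n + 1) = 0 := by
  haveI := fun n => nSMul (𝒩 := (E.X n).gr) hb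
  exact mapS_comp_eq_zero (E.d_grHom n) (E.d_grHom (n + 1)) (GrLC21.d_d E n) e

/-- The complex. -/
def resCx : CochainComplex (CohTop.Ab (CohFound.sp (Proj 𝒜))) ℕ :=
  CochainComplex.of (resObj hb E e) (resD hb E e) (resD_resD hb E e)

theorem resCx_d (n : ℕ) : (resCx hb E e).d n (n + 1) = resD hb E e n := CochainComplex.of_d _ _ n

theorem resι_resD : resι hb E e ≫ resD hb E e 0 = 0 := by
  haveI := fun n => nSMul (𝒩 := (E.X n).gr) hb
  exact mapS_comp_eq_zero E.ε_grHom (E.d_grHom 0) (fun m => LinearMap.mem_ker.1 (E.exact_zero.ge ⟨m, rfl⟩)) e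

/-- The augmented complex. -/
def augCx : CohFound.AugCx (shf 𝒜 𝒩 e) where
  K := resCx hb E e
  ι := resι hb E e
  w := by rw [resCx_d]; exact resι_resD hb E e
  mono := by
    haveI := nSMul (𝒩 := (E.X 0).gr) hb
    exact CohFound.mono_of_injective_app _ fun U => injective_mapS E.ε_grHom E.ε_injective e U
  exact₀ := exact_of_local fun U s hs x hx => by
    haveI := fun n => nSMul (𝒩 := (E.X n).gr) hb
    change ((resCx hb E e).d 0 1).hom.app (op U) s = 0 at hs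
    rw [resCx_d] at hs
    exact exists_local_lift hb E.ε_grHom (E.d_grHom 0) E.exact_zero e U s hs x hx
  exact_succ n := exact_of_local fun U s hs x hx => by
    haveI := fun n => nSMul (𝒩 := (E.X n).gr) hb
    change ((resCx hb E e).d (n + 1) (n + 1 + 1)).hom.app (op U) s = 0 at hs
    show ∃ (V : _) (hV : V ≤ U), x ∈ V ∧ ∃ t, ((resCx hb E e).d n (n + 1)).hom.app (op V) t = (resObj hb E e (n + 1)).obj.map (homOfLE hV).op s
    rw [resCx_d] at hs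
    rw [resCx_d]
    exact exists_local_lift hb (E.d_grHom n) (E.d_grHom (n + 1)) (E.exact_succ n) e U s hs x hx

theorem acyclicOn_augCx (U : (Proj 𝒜).Opens) : (augCx hb E e).AcyclicOn U := fun q j => by
  haveI := nSMul (𝒩 := (E.X q).gr) hb
  haveI := isFlasque_tilde hb (E.starInj q) e
  exact CohFound.subsingleton_hc_of_isFlasque (shf 𝒜 (E.X q).gr e) j U

end Res

end Groth.Agent.GrLCSheaf21
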