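import Groth.Agent.Lib.GrLCSheaf21.Frac
import Groth.Agent.Lib.GrLC21.StarInj
import Groth.Agent.Lib.CohFound.Flasque
import Mathlib.RingTheory.Filtration
import Mathlib.LinearAlgebra.Finsupp.LinearCombination
import Mathlib.Topology.NoetherianSpace

/-!
# The sheaf attached to a *injective graded module is flasque
-/

set_option autoImplicit false
set_option linter.unusedSectionVars false
set_option backward.isDefEq.respectTransparency false

open CategoryTheory AlgebraicGeometry TopologicalSpace Opposite DirectSum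

universe u

noncomputable section

namespace Groth.Agent.GrLCSheaf21

open _root_.GrMod Groth.Agent.GrMod11

/-- Compatible families on the powers of a finite set of generators factor through high powers (Artin–Rees). -/
theorem exists_ker_le_ker {A M : Type u} [CommRing A] [IsNoetherianRing A] [AddCommGroup M] [Module A M]
    {T : Type u} [Fintype T] (s : T → A) (b : T → M) (h : ∀ x y, s y • b x = s x • b y) :
    ∃ p : ℕ, LinearMap.ker (Fintype.linearCombination A fun x => s x ^ (p + 1)) ≤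
      LinearMap.ker (Fintype.linearCombination A fun x => s x ^ p • b x) := by
  classical
  let I : Ideal A := Ideal.span (Set.range s)
  let Φ : (T → A) →ₗ[A] A := Fintype.linearCombination A s
  let Ψ : (T → A) →ₗ[A] M := Fintype.linearCombination A b
  let R : Submodule A (T → A) := LinearMap.ker Φ
  have hkill : ∀ c ∈ R, ∀ r ∈ I, r • Ψ c = 0 := by
    intro c hc r hr
    induction hr using Submodule.span_induction with
    | mem r hr =>
      obtain ⟨y, rfl⟩ := hr
      have e : s y • Ψ c = Φ c • b y := by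
        simp only [Ψ, Φ, Fintype.linearCombination_apply, Finset.smul_sum, Finset.sum_smul, smul_eq_mul]
        exact Finset.sum_congr rfl fun x _ => by rw [smul_comm, h, smul_smul]
      rw [e, LinearMap.mem_ker.1 hc, zero_smul]
    | zero => exact zero_smul A _
    | add u v _ _ hu hv => rw [add_smul, hu, hv, add_zero]
    | smul u v _ hv => rw [smul_eq_mul, mul_smul, hv, smul_zero]
  obtain ⟨k, hk⟩ := Ideal.exists_pow_inf_eq_pow_smul I R
  refine ⟨k + 1, fun c hc => ?_⟩
  let b' : T → A := fun x => c x * s x ^ (k + 1)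
  have hb'R : b' ∈ R := by
    rw [LinearMap.mem_ker] at hc
    show Φ b' = 0
    rw [← hc]
    simp only [Φ, b', Fintype.linearCombination_apply, smul_eq_mul]
    exact Finset.sum_congr rfl fun x _ => by ring
  have hb'I : b' ∈ I ^ (k + 1) • (⊤ : Submodule A (T → A)) := by
    rw [show b' = ∑ x, s x ^ (k + 1) • (Pi.single x (c x) : T → A) from funext fun y => by
      simp [b', Finset.sum_apply, Pi.single_apply, mul_comm]]
    exact Submodule.sum_mem _ fun x _ => Submodule.smul_mem_smul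
      (Ideal.pow_mem_pow (Ideal.subset_span (Set.mem_range_self x)) _) trivial
  have hmem : b' ∈ I ^ (k + 1) • (⊤ : Submodule A (T → A)) ⊓ R := ⟨hb'I, hb'R⟩
  rw [hk (k + 1) (Nat.le_succ k), show k + 1 - k = 1 by omega, pow_one] at hmem
  have hle : I • (I ^ k • (⊤ : Submodule A (T → A)) ⊓ R) ≤ LinearMap.ker Ψ :=
    Submodule.smul_le.2 fun r hr n hn => LinearMap.mem_ker.2 (by rw [map_smul]; exact hkill n hn.2 r hr)
  rw [LinearMap.mem_ker, ← LinearMap.mem_ker.1 (hle hmem)]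
  simp only [Ψ, b', Fintype.linearCombination_apply, mul_smul]

variable {A σ σ' : Type u} [CommRing A] [SetLike σ A] [AddSubgroupClass σ A] {𝒜 : ℕ → σ} [GradedRing 𝒜]
  [SetLike σ' A] [AddSubgroupClass σ' A] {ℬ : ℤ → σ'} [GradedRing ℬ] {ι : Type} {xs : ι → A}
variable {M τ : Type u} [AddCommGroup M] [Module A M] [SetLike τ M] [AddSubgroupClass τ M] {𝒩 : ℤ → τ}
  [Decomposition 𝒩] [SetLike.GradedSMul ℬ 𝒩] [SetLike.GradedSMul 𝒜 (nat 𝒩)]

/-- Homogeneous generators with compatible values in a *injective module come from one element. -/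
theorem exists_mem_of_compatible [IsNoetherianRing A] (hI : GrLC.IsStarInj ℬ 𝒩) {T : Type u} [Fintype T]
    (s : T → A) (E : T → ℤ) (hs : ∀ x, s x ∈ ℬ (E x)) {e : ℤ} (b : T → M) (hb : ∀ x, b x ∈ 𝒩 (E x + e))
    (h : ∀ x y, s y • b x = s x • b y) :
    ∃ (p : ℕ) (m : M), m ∈ 𝒩 e ∧ ∀ x, s x ^ (p + 1) • m = s x ^ p • b x := by
  classical
  obtain ⟨p, hp⟩ := exists_ker_le_ker s b h
  let Y : GrLC.GMod.{u} ℬ := GrLC21.shift (GrLC21.toGMod ℬ ℬ) e
  let gen : T → Y.carrier := fun x => (show Y.carrier from (s x ^ (p + 1) : A))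
  have hpow : ∀ (x : T) (n : ℕ), s x ^ n ∈ ℬ ((n : ℤ) * E x) := fun x n => by
    simpa [nsmul_eq_mul] using SetLike.pow_mem_graded (A := ℬ) n (hs x)
  have hgen : ∀ x, gen x ∈ Y.gr (((p + 1 : ℕ) : ℤ) * E x + e) := fun x => by
    refine GrLC21.mem_shift.2 ?_
    show (s x ^ (p + 1) : A) ∈ ℬ _
    rw [add_sub_cancel_right]
    exact hpow x (p + 1)
  let Φq : (T → A) →ₗ[A] Y.carrier := Fintype.linearCombination A gen
  let Ψq : (T → A) →ₗ[A] M := Fintype.linearCombination A fun x => s x ^ p • b x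
  let P : Submodule A Y.carrier := LinearMap.range Φq
  have hP : P.IsHomogeneous Y.gr := by
    rw [show P = Submodule.span A (Set.range gen) from Fintype.range_linearCombination A gen]
    exact GrLC21.isHomogeneous_span ℬ fun z ⟨x, hx⟩ => ⟨_, hx ▸ hgen x⟩
  have hle : LinearMap.ker Φq ≤ LinearMap.ker Ψq := fun c hc => hp (by
    rw [LinearMap.mem_ker] at hc ⊢
    exact hc)
  let u' : (GrLC21.sub Y P hP).carrier →ₗ[A] M :=
    (LinearMap.ker Φq).liftQ Ψq hle ∘ₗ (LinearMap.quotKerEquivRange Φq).symm.toLinearMap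
  have hu' : ∀ (c : T → A) (hc : Φq c ∈ P), u' ⟨Φq c, hc⟩ = Ψq c := fun c hc =>
    congrArg ((LinearMap.ker Φq).liftQ Ψq hle) (LinearMap.quotKerEquivRange_symm_apply_image Φq c hc)
  have hgrad : GrLC.IsGrHom (GrLC21.sub Y P hP).gr 𝒩 u' := by
    rintro g ⟨z, c, rfl⟩ hg
    let D : T → ℤ := fun x => g - (((p + 1 : ℕ) : ℤ) * E x + e)
    let c' : T → A := fun x => GrLC21.proj ℬ (D x) (c x)
    have e1 : Φq c' = Φq c := by
      conv_rhs => rw [← GrLC21.proj_of_mem Y.gr (show Φq c ∈ Y.gr g from hg)]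
      show Φq c' = GrLC21.proj Y.gr g (Φq c)
      simp only [Φq, Fintype.linearCombination_apply, map_sum]
      refine Finset.sum_congr rfl fun x _ => ?_
      rw [GrLC21.proj_smul_homogeneous (𝒜 := ℬ) (ℳ := Y.gr) (hgen x) (D x) (c x), sub_add_cancel]
    rw [show (⟨Φq c, ⟨c, rfl⟩⟩ : P) = ⟨Φq c', ⟨c', rfl⟩⟩ from Subtype.ext e1.symm]
    refine (hu' c' ⟨c', rfl⟩).symm ▸ ?_
    simp only [Ψq, Fintype.linearCombination_apply]
    refine sum_mem fun x _ => ?_
    have := GrLC21.smul_mem ℬ 𝒩 (GrLC21.proj_mem ℬ (D x) (c x)) (GrLC21.smul_mem ℬ 𝒩 (hpow x p) (hb x))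
    convert this using 2
    simp only [D]
    push_cast
    ring
  obtain ⟨w, hw, hw2⟩ := hI (GrLC21.sub Y P hP) Y (GrLC21.subι Y P hP) (GrLC21.subι_grHom Y P hP)
    (GrLC21.subι_injective Y P hP) u' hgrad
  let one : Y.carrier := (show Y.carrier from (1 : A))
  have hone : one ∈ Y.gr e := by
    refine GrLC21.mem_shift.2 ?_
    show (1 : A) ∈ ℬ _
    rw [sub_self]
    exact SetLike.GradedOne.one_mem
  refine ⟨p, w one, hw e _ hone, fun x => ?_⟩
  have e0 : Φq (Pi.single x 1) = gen x := by simp [Φq, Fintype.linearCombination_apply_single]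
  have e2 : s x ^ (p + 1) • one = gen x := by
    show (s x ^ (p + 1) * 1 : A) = s x ^ (p + 1)
    rw [mul_one]
  calc s x ^ (p + 1) • w one = w (gen x) := by rw [← map_smul, e2]
    _ = u' ⟨Φq (Pi.single x 1), ⟨_, rfl⟩⟩ := by
        rw [← hw2]
        exact congrArg w e0.symm
    _ = Ψq (Pi.single x 1) := hu' _ _
    _ = s x ^ p • b x := by simp [Ψq, Fintype.linearCombination_apply_single]

/-- Every section over a quasi-compact open of the sheaf of a *injective module is global. -/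
theorem exists_glob [IsNoetherianRing A] (hb : Base 𝒜 ℬ xs) (hI : GrLC.IsStarInj ℬ 𝒩) {e : ℤ}
    (U : (Proj 𝒜).Opens) (hU : IsCompact (U : Set (Proj 𝒜))) (f : Sec (ℳ := nat 𝒩) e U) :
    ∃ (m : M) (hm : m ∈ 𝒩 e), glob hb U hm = f := by
  classical
  choose d i g a hd hg ha hdeg hxg hgU hval using fun x : U => exists_local_frac 𝒜 (nat 𝒩) f x.1 x.2
  obtain ⟨T, hT⟩ := hU.elim_finite_subcover
    (fun x : U => ((Proj.basicOpen 𝒜 (g x) : (Proj 𝒜).Opens) : Set (Proj 𝒜)))
    (fun x => (Proj.basicOpen 𝒜 (g x)).2) (fun x hx => Set.mem_iUnion.2 ⟨⟨x, hx⟩, hxg ⟨x, hx⟩⟩)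
  have haZ : ∀ x, a x ∈ 𝒩 ((d x : ℤ) + e) := fun x => hdeg x ▸ ha x
  have hcross : ∀ x y : T, ∃ N : ℕ, (g x.1 * g y.1) ^ N • (g y.1 • a x.1 - g x.1 • a y.1) = 0 := fun x y => by
    refine exists_pow_smul_eq_zero (𝒩 := 𝒩) hb (d := d x.1 + d y.1) (g := (d x.1 : ℤ) + d y.1 + e)
      (by have := hd x.1; omega) (SetLike.mul_mem_graded (hg _) (hg _)) (sub_mem ?_ ?_) fun z hz => ?_
    · convert smul_memZ hb (hg y.1) (haZ x.1) using 2
      ring
    · convert smul_memZ hb (hg x.1) (haZ y.1) using 2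
      ring
    · have hzx : g x.1 ∉ z.asHomogeneousIdeal := fun h' => hz (Ideal.mul_mem_right _ _ h')
      have hzy : g y.1 ∉ z.asHomogeneousIdeal := fun h' => hz (Ideal.mul_mem_left _ _ h')
      obtain ⟨w, hw, hwe⟩ := (mkx_eq_iff 𝒜 _ _).1
        ((hval x.1 z (hgU x.1 hzx) hzx).symm.trans (hval y.1 z (hgU x.1 hzx) hzy))
      exact ⟨w, hw, by rw [smul_sub, hwe, sub_self]⟩
  choose N hN using hcross
  let L := ∑ p : T × T, N p.1 p.2
  let s : T → A := fun x => g x.1 ^ (L + 1)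
  let b : T → M := fun x => g x.1 ^ L • a x.1
  let E : T → ℤ := fun x => (((L + 1) * d x.1 : ℕ) : ℤ)
  have hpowg : ∀ (x : U) (n : ℕ), g x ^ n ∈ 𝒜 (n * d x) := fun x n => GrTw11.pow_mem_smul 𝒜 (hg x) n
  have hs : ∀ x, s x ∈ ℬ (E x) := fun x => (hb.mem_iff _ _).2 (hpowg x.1 (L + 1))
  have hbm : ∀ x : T, b x ∈ 𝒩 (E x + e) := fun x => by
    convert smul_memZ hb (hpowg x.1 L) (haZ x.1) using 2
    simp only [E]
    push_cast
    ring
  have hsb : ∀ x y : T, s y • b x = s x • b y := fun x y => by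
    have hle : N x y ≤ L := Finset.single_le_sum (f := fun p : T × T => N p.1 p.2)
      (fun p _ => Nat.zero_le _) (Finset.mem_univ (x, y))
    refine sub_eq_zero.1 ?_
    calc s y • b x - s x • b y
        = (g x.1 * g y.1) ^ (L - N x y) • ((g x.1 * g y.1) ^ N x y • (g y.1 • a x.1 - g x.1 • a y.1)) := by
          rw [smul_smul ((g x.1 * g y.1) ^ (L - N x y)), ← pow_add, Nat.sub_add_cancel hle]
          simp only [s, b, smul_smul, smul_sub]
          congr 2 <;> ring
      _ = 0 := by rw [hN, smul_zero]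
  obtain ⟨p, m, hm, hsm⟩ := exists_mem_of_compatible hI s E hs b hbm hsb
  refine ⟨m, hm, sec_ext fun z hz => ?_⟩
  obtain ⟨x, hxT, hzx⟩ := Set.mem_iUnion₂.1 (hT hz)
  rw [val_glob, hval x z hz hzx]
  refine (mkx_eq_iff 𝒜 _ _).2 ⟨g x ^ ((L + 1) * p + L), GrTw11.pow_notMem 𝒜 hzx _, ?_⟩
  have h' := hsm ⟨x, hxT⟩
  simp only [s, b, ← pow_mul, smul_smul, ← pow_add] at h'
  rw [one_smul, smul_smul, ← pow_succ]
  convert h' using 3
  ring

/-- The sheaf of a *injective module is flasque. -/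
theorem isFlasque_tilde [IsNoetherianRing A] [NoetherianSpace (Proj 𝒜)] (hb : Base 𝒜 ℬ xs)
    (hI : GrLC.IsStarInj ℬ 𝒩) (e : ℤ) :
    TopCat.Sheaf.IsFlasque ((CohFound.abF (Proj 𝒜)).obj (_root_.GrMod.tilde 𝒜 (nat 𝒩) e)) :=
  CohFound.isFlasque_mk _ fun U V h f => by
    obtain ⟨m, hm, rfl⟩ := exists_glob hb hI (e := e) V (NoetherianSpace.isCompact _) f
    exact ⟨glob hb U hm, rfl⟩

end Groth.Agent.GrLCSheaf21
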