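import Groth.Agent.Lib.GrMod11.Frac
import Groth.Agent.Lib.GrLC21.Primes
import Groth.Agent.Lib.GrLC21.Coh
import Groth.Agent.Lib.CohFound.ModAb

/-!
# Sections of `M(e)~` for a `ℤ`-graded module, read through the pieces of non-negative degree
-/

set_option autoImplicit false
set_option linter.unusedSectionVars false
set_option backward.isDefEq.respectTransparency false

open CategoryTheory AlgebraicGeometry TopologicalSpace Opposite DirectSum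

universe u

noncomputable section

namespace Groth.Agent.GrLCSheaf21

open _root_.GrMod Groth.Agent.GrMod11

/-- A ring graded by `ℕ` and by `ℤ` compatibly, with degree-one elements generating the irrelevant ideal. -/
structure Base {A σ σ' : Type u} [CommRing A] [SetLike σ A] [SetLike σ' A] [AddSubgroupClass σ A]
    (𝒜 : ℕ → σ) [GradedRing 𝒜] (ℬ : ℤ → σ') {ι : Type} (xs : ι → A) : Prop where
  mem_iff : ∀ (n : ℕ) (a : A), a ∈ ℬ (n : ℤ) ↔ a ∈ 𝒜 n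
  deg_one : ∀ l, xs l ∈ 𝒜 1
  cover : ∀ x : ProjectiveSpectrum 𝒜, ∃ l, xs l ∉ x.asHomogeneousIdeal

variable {A σ σ' : Type u} [CommRing A] [SetLike σ A] [AddSubgroupClass σ A] {𝒜 : ℕ → σ} [GradedRing 𝒜]
  [SetLike σ' A] [AddSubgroupClass σ' A] {ℬ : ℤ → σ'} [GradedRing ℬ] {ι : Type} {xs : ι → A}
variable {M τ : Type u} [AddCommGroup M] [Module A M] [SetLike τ M] [AddSubgroupClass τ M] {𝒩 : ℤ → τ}
  [Decomposition 𝒩] [SetLike.GradedSMul ℬ 𝒩]

/-- The pieces of non-negative degree. -/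
abbrev nat (𝒩 : ℤ → τ) : ℕ → τ := fun n => 𝒩 (n : ℤ)

theorem nSMul (hb : Base 𝒜 ℬ xs) : SetLike.GradedSMul 𝒜 (nat 𝒩) :=
  ⟨fun {i j a m} ha hm => by
    show a • m ∈ 𝒩 ((i + j : ℕ) : ℤ)
    rw [Nat.cast_add]
    exact GrLC21.smul_mem ℬ 𝒩 ((hb.mem_iff i a).2 ha) hm⟩

theorem smul_memZ (hb : Base 𝒜 ℬ xs) {i : ℕ} {g : ℤ} {a : A} {m : M} (ha : a ∈ 𝒜 i) (hm : m ∈ 𝒩 g) :
    a • m ∈ 𝒩 ((i : ℤ) + g) := GrLC21.smul_mem ℬ 𝒩 ((hb.mem_iff i a).2 ha) hm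

theorem pow_mem_one (hb : Base 𝒜 ℬ xs) (l : ι) (K : ℕ) : xs l ^ K ∈ 𝒜 K := by
  simpa using SetLike.pow_mem_graded (A := 𝒜) K (hb.deg_one l)

/-- A homogeneous element of any degree killed outside a prime is killed by a homogeneous element outside it. -/
theorem exists_homogeneous_annihilator (hb : Base 𝒜 ℬ xs) {x : ProjectiveSpectrum 𝒜} {g : ℤ} {m : M}
    (hm : m ∈ 𝒩 g) {w : A} (hw : w ∉ x.asHomogeneousIdeal) (h : w • m = 0) :
    ∃ (l : ℕ) (w' : A), w' ∈ 𝒜 l ∧ w' ∉ x.asHomogeneousIdeal ∧ w' • m = 0 := by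
  classical
  by_contra H
  push Not at H
  refine hw ?_
  rw [← DirectSum.sum_support_decompose 𝒜 w]
  refine sum_mem fun l _ => ?_
  by_contra hl
  refine H l _ (SetLike.coe_mem _) hl ?_
  have e : GrLC21.proj ℬ (l : ℤ) w = (decompose 𝒜 w l : A) := by
    conv_lhs => rw [← DirectSum.sum_support_decompose 𝒜 w]
    rw [map_sum, Finset.sum_eq_single l]
    · exact GrLC21.proj_of_mem ℬ ((hb.mem_iff l _).2 (SetLike.coe_mem _))
    · intro b _ hbl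
      exact GrLC21.proj_of_mem_ne ℬ ((hb.mem_iff b _).2 (SetLike.coe_mem _)) (by omega)
    · intro hl'
      rw [DFinsupp.notMem_support_iff.1 hl', ZeroMemClass.coe_zero, map_zero]
  rw [← e, GrLC21.proj_smul_homogeneous (𝒜 := ℬ) (ℳ := 𝒩) hm (l : ℤ) w, h, map_zero]

/-- A homogeneous element vanishing on `D₊(h)` is killed by a power of `h`. -/
theorem exists_pow_smul_eq_zero (hb : Base 𝒜 ℬ xs) {h : A} {d : ℕ} (hd : 0 < d) (hh : h ∈ 𝒜 d) {g : ℤ}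
    {c : M} (hc : c ∈ 𝒩 g)
    (H : ∀ x : ProjectiveSpectrum 𝒜, h ∉ x.asHomogeneousIdeal → ∃ w : A, w ∉ x.asHomogeneousIdeal ∧ w • c = 0) :
    ∃ N : ℕ, h ^ N • c = 0 := by
  let I : Set A := {w | SetLike.IsHomogeneousElem 𝒜 w ∧ w • c = 0}
  obtain ⟨N, hN⟩ := GrTw11.exists_pow_mem_of_forall 𝒜 (Ideal.homogeneous_span 𝒜 I fun w hw => hw.1) hd hh
    fun x hx hle => by
      obtain ⟨w, hw, hwc⟩ := H x hx
      obtain ⟨l, w', hl, hw', hwc'⟩ := exists_homogeneous_annihilator hb hc hw hwc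
      exact hw' (hle (Ideal.subset_span ⟨⟨l, hl⟩, hwc'⟩))
  refine ⟨N, ?_⟩
  generalize h ^ N = y at hN
  induction hN using Submodule.span_induction with
  | mem w hw => exact hw.2
  | zero => exact zero_smul A c
  | add a b _ _ ha hb' => rw [add_smul, ha, hb', add_zero]
  | smul r a _ ha => rw [smul_eq_mul, mul_smul, ha, smul_zero]

section Sections

variable [SetLike.GradedSMul 𝒜 (nat 𝒩)]

theorem mkx_mem_tildeAt (hb : Base 𝒜 ℬ xs) {e : ℤ} (x : ProjectiveSpectrum 𝒜) {m : M} (hm : m ∈ 𝒩 e) :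
    mkx 𝒜 x m 1 (one_nin x) ∈ tildeAt 𝒜 (nat 𝒩) e x := by
  obtain ⟨l, hl⟩ := hb.cover x
  have hK : xs l ^ e.natAbs ∉ x.asHomogeneousIdeal := GrTw11.pow_notMem 𝒜 hl _
  have e1 : mkx 𝒜 x m 1 (one_nin x) = mkx 𝒜 x (xs l ^ e.natAbs • m) (xs l ^ e.natAbs) hK :=
    (mkx_eq_iff 𝒜 _ _).2 ⟨1, one_nin x, by simp⟩
  rw [e1]
  refine GrMod11.mk_mem 𝒜 (nat 𝒩) (i := ((e.natAbs : ℤ) + e).toNat) ?_ (pow_mem_one hb l _) hK (Or.inl (by omega))
  show _ ∈ 𝒩 _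
  rw [Int.toNat_of_nonneg (by omega)]
  exact smul_memZ hb (pow_mem_one hb l _) hm

/-- The section defined by a homogeneous element of any degree. -/
def glob (hb : Base 𝒜 ℬ xs) {e : ℤ} (U : (Proj 𝒜).Opens) {m : M} (hm : m ∈ 𝒩 e) : Sec (ℳ := nat 𝒩) e U :=
  ⟨fun x => ⟨mkx 𝒜 x.1 m 1 (one_nin x.1), mkx_mem_tildeAt hb x.1 hm⟩, fun x => by
    obtain ⟨l, hl⟩ := hb.cover x.1
    refine ⟨U ⊓ Proj.basicOpen 𝒜 (xs l), ⟨x.2, hl⟩, Opens.infLELeft _ _, ((e.natAbs : ℤ) + e).toNat, e.natAbs,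
      ⟨xs l ^ e.natAbs • m, ?_⟩, ⟨xs l ^ e.natAbs, pow_mem_one hb l _⟩,
      fun y => GrTw11.pow_notMem 𝒜 y.2.2 _, Or.inl (by omega), fun y => ?_⟩
    · show _ ∈ 𝒩 _
      rw [Int.toNat_of_nonneg (by omega)]
      exact smul_memZ hb (pow_mem_one hb l _) hm
    · exact (mkx_eq_iff 𝒜 _ _).2 ⟨1, one_nin _, by simp⟩⟩

theorem val_glob (hb : Base 𝒜 ℬ xs) {e : ℤ} {U : (Proj 𝒜).Opens} {m : M} (hm : m ∈ 𝒩 e)
    (x : ProjectiveSpectrum 𝒜) (hx : x ∈ U) :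
    val (glob hb U hm) x hx = mkx 𝒜 x m 1 (one_nin x) := rfl

/-- A homogeneous element gives the zero global section iff it is killed by powers of all the `xs`. -/
theorem glob_eq_zero_iff (hb : Base 𝒜 ℬ xs) {e : ℤ} {m : M} (hm : m ∈ 𝒩 e) :
    glob hb ⊤ hm = 0 ↔ ∀ l, ∃ N : ℕ, xs l ^ N • m = 0 := by
  constructor
  · intro h l
    refine exists_pow_smul_eq_zero hb Nat.one_pos (hb.deg_one l) hm fun x _ => ?_
    have e0 : mkx 𝒜 x m 1 (one_nin x) = 0 :=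
      congrArg (fun f : Sec (ℳ := nat 𝒩) e ⊤ => val f x trivial) h
    exact (mkx_eq_zero_iff 𝒜 _).1 e0
  · intro h
    refine sec_ext fun x hx => ?_
    obtain ⟨l, hl⟩ := hb.cover x
    obtain ⟨N, hN⟩ := h l
    rw [val_glob, (mkx_eq_zero_iff 𝒜 _).2 ⟨_, GrTw11.pow_notMem 𝒜 hl N, hN⟩]
    rfl

/-- The homogeneous elements of `Γ_I` are those killed by powers of the generators of `I`. -/
theorem mem_gam_span_iff [Finite ι] {a : Ideal A} (ha : a = Ideal.span (Set.range xs)) {m : M} :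
    m ∈ GrLC.gam a M ↔ ∀ l, ∃ N : ℕ, xs l ^ N • m = 0 := by
  subst ha
  constructor
  · rintro ⟨N, hN⟩ l
    exact ⟨N, hN (xs l ^ N) (Ideal.pow_mem_pow (Ideal.subset_span (Set.mem_range_self l)) N)⟩
  · intro h
    let J : Ideal A := LinearMap.ker (LinearMap.toSpanSingleton A M m)
    have hle : Ideal.span (Set.range xs) ≤ J.radical := Ideal.span_le.2 (by
      rintro _ ⟨l, rfl⟩
      obtain ⟨N, hN⟩ := h l
      show xs l ∈ J.radical
      exact Ideal.mem_radical_iff.2 ⟨N, LinearMap.mem_ker.2 hN⟩)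
    obtain ⟨N, hN⟩ := Ideal.exists_pow_le_of_le_radical_of_fg hle (Submodule.fg_span (Set.finite_range xs))
    exact ⟨N, fun r hr => hN hr⟩

end Sections

end Groth.Agent.GrLCSheaf21
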