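import Groth.Agent.Lib.GrLCSheaf21.Complex

/-!
# Graded local cohomology and the cohomology of the twists of `M~`
-/

set_option autoImplicit false
set_option linter.unusedSectionVars false
set_option backward.isDefEq.respectTransparency false

open CategoryTheory AlgebraicGeometry TopologicalSpace Opposite DirectSum

universe u

noncomputable section

namespace Groth.Agent.GrLCSheaf21

open _root_.GrMod Groth.Agent.GrMod11

variable {A σ σ' : Type u} [CommRing A] [SetLike σ A] [AddSubgroupClass σ A] {𝒜 : ℕ → σ} [GradedRing 𝒜]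
  [SetLike σ' A] [AddSubgroupClass σ' A] {ℬ : ℤ → σ'} [GradedRing ℬ] {ι : Type} {xs : ι → A}
variable {M τ : Type u} [AddCommGroup M] [Module A M] [SetLike τ M] [AddSubgroupClass τ M] {𝒩 : ℤ → τ}
  [Decomposition 𝒩] [SetLike.GradedSMul ℬ 𝒩] [SetLike.GradedSMul 𝒜 (nat 𝒩)]

theorem glob_sub (hb : Base 𝒜 ℬ xs) {e : ℤ} (U : (Proj 𝒜).Opens) {m m' : M} (hm : m ∈ 𝒩 e) (hm' : m' ∈ 𝒩 e) :
    glob hb U (sub_mem hm hm') = glob hb U hm - glob hb U hm' :=
  sec_ext fun x hx => by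
    have e1 : ∀ f g : Sec (ℳ := nat 𝒩) e U, val (f - g) x hx = val f x hx - val g x hx := fun _ _ => rfl
    rw [e1, val_glob, val_glob, val_glob]
    exact map_sub (LocalizedModule.mkLinearMap x.asHomogeneousIdeal.toIdeal.primeCompl M) m m'

theorem glob_eq_glob_iff [Finite ι] (hb : Base 𝒜 ℬ xs) (a : HomogeneousIdeal ℬ)
    (ha : a.toIdeal = Ideal.span (Set.range xs)) {e : ℤ} {m m' : M} (hm : m ∈ 𝒩 e) (hm' : m' ∈ 𝒩 e) :
    glob hb ⊤ hm = glob hb ⊤ hm' ↔ m - m' ∈ GrLC.gam a.toIdeal M := by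
  rw [mem_gam_span_iff ha, ← glob_eq_zero_iff hb (sub_mem hm hm'), glob_sub hb ⊤ hm hm']
  constructor
  · intro h
    rw [h]
    exact sub_self (glob hb ⊤ hm' : Sec (ℳ := nat 𝒩) e ⊤)
  · intro h
    exact eq_of_sub_eq_zero (α := Sec (ℳ := nat 𝒩) e ⊤) h

theorem Hcomp_eq_bot_iff_cobdy (E : GrLC.StarInjRes ℬ 𝒩) (a : HomogeneousIdeal ℬ) {i : ℕ} {g : ℤ} :
    E.Hcomp a i g = ⊥ ↔ ∀ z ∈ (E.X i).gr g, z ∈ E.cocyc a i → z ∈ E.cobdy a i := by
  rw [GrLC21.Hcomp_eq_bot_iff]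
  constructor
  · intro h z hz hc
    exact (GrLC21.toH_eq_zero_iff E a ⟨z, hc⟩).1 (h _ ⟨⟨z, hc⟩, hz, rfl⟩)
  · rintro h x ⟨z, hz, rfl⟩
    exact (GrLC21.toH_eq_zero_iff E a z).2 (h _ hz z.2)

section Coh

variable [IsNoetherianRing A] [NoetherianSpace (Proj 𝒜)] [Finite ι] (hb : Base 𝒜 ℬ xs)
  (E : GrLC.StarInjRes ℬ 𝒩) (a : HomogeneousIdeal ℬ) (ha : a.toIdeal = Ideal.span (Set.range xs)) (e : ℤ)

include hb ha in
theorem resD_glob_eq_iff (n : ℕ) {b : (E.X n).carrier} (hbe : b ∈ (E.X n).gr e) {m : (E.X (n + 1)).carrier}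
    (hm : m ∈ (E.X (n + 1)).gr e) :
    haveI := fun n => nSMul (𝒩 := (E.X n).gr) hb
    (resD hb E e n).hom.app (op ⊤) (glob hb ⊤ hbe) = glob hb ⊤ hm ↔
      E.d n b - m ∈ GrLC.gam a.toIdeal (E.X (n + 1)).carrier := by
  haveI := fun n => nSMul (𝒩 := (E.X n).gr) hb
  show (mapS 𝒜 (E.d_grHom n) e).hom.app (op ⊤) (glob hb ⊤ hbe) = glob hb ⊤ hm ↔ _
  rw [mapS_glob hb (E.d_grHom n) ⊤ hbe]
  exact glob_eq_glob_iff hb a ha _ hm

include hb ha in
theorem resD_glob_eq_zero_iff (n : ℕ) {b : (E.X n).carrier} (hbe : b ∈ (E.X n).gr e) :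
    haveI := fun n => nSMul (𝒩 := (E.X n).gr) hb
    (resD hb E e n).hom.app (op ⊤) (glob hb ⊤ hbe) = 0 ↔ E.d n b ∈ GrLC.gam a.toIdeal (E.X (n + 1)).carrier := by
  haveI := fun n => nSMul (𝒩 := (E.X n).gr) hb
  show (mapS 𝒜 (E.d_grHom n) e).hom.app (op ⊤) (glob hb ⊤ hbe) = 0 ↔ _
  rw [mapS_glob hb (E.d_grHom n) ⊤ hbe]
  refine (glob_eq_zero_iff hb _).trans (mem_gam_span_iff ha).symm

include hb in
theorem exists_glob_top (n : ℕ) (s : (resObj hb E e n).obj.obj (op ⊤)) :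
    haveI := fun n => nSMul (𝒩 := (E.X n).gr) hb
    ∃ (m : (E.X n).carrier) (hm : m ∈ (E.X n).gr e), glob hb ⊤ hm = s := by
  haveI := fun n => nSMul (𝒩 := (E.X n).gr) hb
  exact exists_glob hb (E.starInj n) ⊤ (NoetherianSpace.isCompact _) s

include hb ha in
/-- Higher cohomology of `M(e)~` vanishes iff the next graded local cohomology does in degree `e`. -/
theorem subsingleton_hc_iff (n : ℕ) :
    Subsingleton (CohFound.Hc (shf 𝒜 𝒩 e) (n + 1) ⊤) ↔ E.Hcomp a (n + 2) e = ⊥ := by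
  haveI := fun n => nSMul (𝒩 := (E.X n).gr) hb
  let R := augCx hb E e
  have hA := acyclicOn_augCx hb E e ⊤
  have h1 : Subsingleton (CohFound.Hc (shf 𝒜 𝒩 e) (n + 1) ⊤) ↔
      ∀ s : (resObj hb E e (n + 1)).obj.obj (op ⊤), (resD hb E e (n + 1)).hom.app (op ⊤) s = 0 →
        ∃ t, (resD hb E e n).hom.app (op ⊤) t = s := by
    constructor
    · intro hsub s hs
      have hex : (ShortComplex.mk _ _ (Limits.kernel.condition (R.K.d (n + 1) (n + 2)))).Exact :=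
        ShortComplex.exact_of_f_is_kernel _ (Limits.kernelIsKernel _)
      obtain ⟨z, hz⟩ := CohFound.exact_app hex (U := ⊤) s (by
        show (R.K.d (n + 1) (n + 1 + 1)).hom.app (op ⊤) s = 0
        rw [show R.K.d (n + 1) (n + 1 + 1) = resD hb E e (n + 1) from resCx_d hb E e (n + 1)]
        exact hs)
      obtain ⟨t, ht⟩ := (CohFound.AugCx.toHc_succ_eq_zero_iff hA n z).1 (Subsingleton.elim _ _)
      rw [show R.K.d n (n + 1) = resD hb E e n from resCx_d hb E e n] at ht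
      exact ⟨t, ht.trans hz⟩
    · intro h
      refine subsingleton_of_forall_eq 0 fun x => ?_
      obtain ⟨z, rfl⟩ := CohFound.AugCx.toHc_surjective hA (n + 1) x
      refine (CohFound.AugCx.toHc_succ_eq_zero_iff hA n z).2 ?_
      obtain ⟨t, ht⟩ := h ((Limits.kernel.ι (R.K.d (n + 1) (n + 2))).hom.app (op ⊤) z) (by
        rw [← show R.K.d (n + 1) (n + 1 + 1) = resD hb E e (n + 1) from resCx_d hb E e (n + 1)]
        exact congrArg (fun φ : Limits.kernel (R.K.d (n + 1) (n + 2)) ⟶ R.K.X (n + 2) => φ.hom.app (op ⊤) z)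
          (Limits.kernel.condition _))
      refine ⟨t, ?_⟩
      rw [show R.K.d n (n + 1) = resD hb E e n from resCx_d hb E e n]
      exact ht
  rw [h1, Hcomp_eq_bot_iff_cobdy]
  constructor
  · intro h z hz hc
    obtain ⟨m, hm, rfl⟩ := GrLC21.exists_homogeneous_preimage (E.d_grHom (n + 1)) hz
      ((E.exact_succ (n + 1)).le hc.2)
    obtain ⟨t, ht⟩ := h (glob hb ⊤ hm) ((resD_glob_eq_zero_iff hb E a ha e (n + 1) hm).2 hc.1)
    obtain ⟨b, hbe, rfl⟩ := exists_glob_top hb E e n t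
    have hg := (resD_glob_eq_iff hb E a ha e n hbe hm).1 ht
    refine (GrLC21.mem_cobdy_succ E a).2 ⟨m - E.d n b, ?_, by rw [map_sub, GrLC21.d_d E n b, sub_zero]⟩
    simpa using Submodule.neg_mem _ hg
  · intro h s hs
    obtain ⟨m, hm, rfl⟩ := exists_glob_top hb E e (n + 1) s
    have hg := (resD_glob_eq_zero_iff hb E a ha e (n + 1) hm).1 hs
    obtain ⟨c, hc, hdc⟩ := (GrLC21.mem_cobdy_succ E a).1
      (h _ (E.d_grHom (n + 1) e m hm) ⟨hg, GrLC21.d_d E (n + 1) m⟩)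
    let c' := GrLC21.proj (E.X (n + 1)).gr e c
    have hc' : c' ∈ GrLC.gam a.toIdeal (E.X (n + 1)).carrier :=
      GrLC21.gam_isHomogeneous a (E.X (n + 1)).gr e hc
    have hdc' : E.d (n + 1) c' = E.d (n + 1) m := by
      rw [GrLC21.map_proj (E.d_grHom (n + 1)), hdc, GrLC21.proj_of_mem _ (E.d_grHom (n + 1) e m hm)]
    obtain ⟨b, hbe, hdb⟩ := GrLC21.exists_homogeneous_preimage (E.d_grHom n)
      (sub_mem hm (GrLC21.proj_mem (E.X (n + 1)).gr e c))
      ((E.exact_succ n).le (LinearMap.mem_ker.2 (by rw [map_sub, hdc', sub_self])))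
    refine ⟨glob hb ⊤ hbe, (resD_glob_eq_iff hb E a ha e n hbe hm).2 ?_⟩
    rw [hdb, sub_sub_cancel_left]
    exact Submodule.neg_mem _ hc'

include hb ha in
/-- `M_e` surjects onto the sections of `M(e)~` iff the first graded local cohomology vanishes in degree `e`. -/
theorem surjective_glob_iff :
    Function.Surjective (fun m : 𝒩 e => glob hb ⊤ m.2) ↔ E.Hcomp a 1 e = ⊥ := by
  haveI := fun n => nSMul (𝒩 := (E.X n).gr) hb
  have hι : ∀ {x : M} (hx : x ∈ 𝒩 e),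
      (resι hb E e).hom.app (op ⊤) (glob hb ⊤ hx) = glob hb ⊤ (E.ε_grHom e x hx) :=
    fun hx => mapS_glob hb E.ε_grHom ⊤ hx
  have hdε : ∀ x, E.d 0 (E.ε x) = 0 := fun x => LinearMap.mem_ker.1 (E.exact_zero.ge ⟨x, rfl⟩)
  have hinj : Function.Injective ((resι hb E e).hom.app (op ⊤)) :=
    injective_mapS E.ε_grHom E.ε_injective e ⊤
  rw [Hcomp_eq_bot_iff_cobdy]
  constructor
  · intro h z hz hc
    obtain ⟨m, hm, rfl⟩ := GrLC21.exists_homogeneous_preimage (E.d_grHom 0) hz ((E.exact_succ 0).le hc.2)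
    let R := augCx hb E e
    haveI : Mono (ShortComplex.mk R.ι (R.K.d 0 1) R.w).f := R.mono
    obtain ⟨f, hf⟩ := CohFound.exact_app R.exact₀ (U := ⊤) (glob hb ⊤ hm) (by
      show (R.K.d 0 (0 + 1)).hom.app (op ⊤) (glob hb ⊤ hm) = 0
      rw [show R.K.d 0 (0 + 1) = resD hb E e 0 from resCx_d hb E e 0]
      exact (resD_glob_eq_zero_iff hb E a ha e 0 hm).2 hc.1)
    obtain ⟨⟨x, hx⟩, rfl⟩ := h f
    have hg := (glob_eq_glob_iff hb a ha (E.ε_grHom e x hx) hm).1 ((hι hx).symm.trans hf)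
    refine (GrLC21.mem_cobdy_succ E a).2 ⟨m - E.ε x, ?_, by rw [map_sub, hdε, sub_zero]⟩
    simpa using Submodule.neg_mem _ hg
  · intro h f
    obtain ⟨m, hm, hfm⟩ := exists_glob_top hb E e 0 ((resι hb E e).hom.app (op ⊤) f)
    have hg : E.d 0 m ∈ GrLC.gam a.toIdeal (E.X 1).carrier := by
      refine (resD_glob_eq_zero_iff hb E a ha e 0 hm).1 ?_
      rw [hfm]
      exact congrArg (fun φ : shf 𝒜 𝒩 e ⟶ resObj hb E e 1 => φ.hom.app (op ⊤) f) (resι_resD hb E e)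
    obtain ⟨c, hc, hdc⟩ := (GrLC21.mem_cobdy_succ E a).1 (h _ (E.d_grHom 0 e m hm) ⟨hg, GrLC21.d_d E 0 m⟩)
    let c' := GrLC21.proj (E.X 0).gr e c
    have hc' : c' ∈ GrLC.gam a.toIdeal (E.X 0).carrier := GrLC21.gam_isHomogeneous a (E.X 0).gr e hc
    have hdc' : E.d 0 c' = E.d 0 m := by
      rw [GrLC21.map_proj (E.d_grHom 0), hdc, GrLC21.proj_of_mem _ (E.d_grHom 0 e m hm)]
    obtain ⟨x, hx, hεx⟩ := GrLC21.exists_homogeneous_preimage E.ε_grHom
      (sub_mem hm (GrLC21.proj_mem (E.X 0).gr e c))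
      (E.exact_zero.le (LinearMap.mem_ker.2 (by rw [map_sub, hdc', sub_self])))
    refine ⟨⟨x, hx⟩, hinj ?_⟩
    rw [hι hx, ← hfm]
    refine (glob_eq_glob_iff hb a ha _ hm).2 ?_
    rw [hεx, sub_sub_cancel_left]
    exact Submodule.neg_mem _ hc'

end Coh

end Groth.Agent.GrLCSheaf21
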