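import Groth.Agent.Lib.GrLCSheaf21.Main
import Groth.Agent.Lib.GrLC21.RegPoly
import Groth.Agent.Lib.CohFound.ProjFinite
import Groth.Agent.Lib.CohFound.HHBridge
import Groth.Agent.Lib.CohFound.AffMor
import Groth.Agent.Lib.TwTensor11.Pair
import Groth.Prelude.Def_GrMod2
import Groth.Prelude.Def_Curv2
import Mathlib.RingTheory.Polynomial.Basic

/-!
# Projective space: regularity of `M~` against regularity of `M`
-/

set_option autoImplicit false
set_option linter.unusedSectionVars false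
set_option backward.isDefEq.respectTransparency false

open CategoryTheory AlgebraicGeometry TopologicalSpace Opposite DirectSum MvPolynomial

universe u

noncomputable section

namespace Groth.Agent.GrLCSheaf21

variable {k : Type u} [Field k] {r : ℕ}

local notation "𝒮" => GrSyz.stdGr k (Fin (r + 1))
local notation "𝔞" => GrSyz.irrel (GrSyz.stdGr k (Fin (r + 1)))
local notation "GR" => CohB1.polyGrading r k

theorem mem_stdGr_natCast_iff (n : ℕ) (p : MvPolynomial (Fin (r + 1)) k) : p ∈ 𝒮 (n : ℤ) ↔ p ∈ GR n := by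
  have hw : ∀ d : Fin (r + 1) →₀ ℕ,
      Finsupp.weight (fun _ : Fin (r + 1) => (1 : ℤ)) d = ((Finsupp.weight (1 : Fin (r + 1) → ℕ) d : ℕ) : ℤ) :=
    fun d => by simp [Finsupp.weight_apply, Finsupp.sum]
  refine (GrSyz.mem_stdGr_iff k _ _ p).trans ⟨fun h d hd => ?_, fun h d hd => ?_⟩
  · have := h hd
    rw [hw] at this
    exact_mod_cast this
  · rw [hw]
    exact_mod_cast congrArg (fun n : ℕ => (n : ℤ)) (h hd)

theorem base_std : Base GR 𝒮 (fun i : Fin (r + 1) => (X i : MvPolynomial (Fin (r + 1)) k)) where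
  mem_iff := mem_stdGr_natCast_iff
  deg_one := ProjSpace.X_mem' r k
  cover x := by
    have : x ∈ (⨆ i : Fin (r + 1), Proj.basicOpen GR (X i)) := by rw [ProjSpace.iSup_basicOpen]; trivial
    obtain ⟨i, hi⟩ := Opens.mem_iSup.1 this
    exact ⟨i, hi⟩

theorem irrel_eq_span_X :
    (𝔞).toIdeal = Ideal.span (Set.range fun i : Fin (r + 1) => (X i : MvPolynomial (Fin (r + 1)) k)) := by
  refine le_antisymm (GrLC21.irrel_le_allVars.trans (Ideal.span_le.2 ?_)) (Ideal.span_le.2 ?_)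
  · rintro _ ⟨i, -, rfl⟩
    exact Ideal.subset_span ⟨i, rfl⟩
  · rintro _ ⟨i, rfl⟩
    exact GrLC21.mem_irrel_of_mem_one (GrLC21.X_mem_stdGr i)

theorem noetherianSpace_proj : NoetherianSpace (Proj GR) := by
  haveI := CohFound.ProjNum.isLocallyNoetherian_projSpace r k
  haveI : IsProper (CohB1.ProjSpace.toSpec r k) := ProjSpace.isProper_toSpec r k
  haveI : CompactSpace (Proj GR) :=
    QuasiCompact.compactSpace_of_compactSpace (CohB1.ProjSpace.toSpec r k)
  haveI : IsNoetherian (Proj GR) := ⟨⟩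
  infer_instance

theorem hgen : (HomogeneousIdeal.irrelevant GR).toIdeal ≤ Ideal.span (GR 1 : Set (MvPolynomial (Fin (r + 1)) k)) :=
  (ProjSpace.irrelevant_le_span r k).trans (Ideal.span_mono (by rintro _ ⟨i, rfl⟩; exact ProjSpace.X_mem' r k i))

variable {M : Type u} [AddCommGroup M] [Module k M] [Module (MvPolynomial (Fin (r + 1)) k) M]
  [IsScalarTower k (MvPolynomial (Fin (r + 1)) k) M] {ℳ : ℤ → Submodule k M} [Decomposition ℳ]
  [SetLike.GradedSMul (GrSyz.stdGr k (Fin (r + 1))) ℳ] [SetLike.GradedSMul (CohB1.polyGrading r k) (nat ℳ)]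

set_option maxHeartbeats 2000000 in
theorem subsingleton_HH_twist_iff (E : GrLC.StarInjRes 𝒮 ℳ) (e : ℤ) (n : ℕ) :
    Subsingleton (Coh.HH (CohB1.ProjSpace r k)
      (CohB1.tensorMod (GrTilde.tilde GR (nat ℳ) 0) (Twist.twistProjSpace r k e)) (n + 1)) ↔
      E.Hcomp 𝔞 (n + 2) e = ⊥ := by
  haveI := noetherianSpace_proj (k := k) (r := r)
  rw [← subsingleton_hc_iff base_std E 𝔞 irrel_eq_span_X e n, ← CohFound.subsingleton_HH_iff]
  haveI := TwTensor11.isIso_pairHom (ℳ := nat ℳ) (m := 0) (n := e) (k := e) (zero_add e) (hgen (k := k) (r := r))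
  have h : Subsingleton (Coh.HH (Proj GR) (CohB1.tensorMod (_root_.GrMod.tilde GR (nat ℳ) 0) (GrTwist.twist GR e)) (n + 1)) ↔
      Subsingleton (Coh.HH (Proj GR) (_root_.GrMod.tilde GR (nat ℳ) e) (n + 1)) :=
    ((CohFound.hhExt (X := Proj GR) _ (n + 1)).trans
      ((CohFound.mpEquiv ((CohFound.abF (Proj GR)).mapIso (asIso (M2.mkHom (TwTensor11.pairMap GR (nat ℳ) (zero_add e)))))
        (n + 1) ⊤).trans (CohFound.hhExt (X := Proj GR) _ (n + 1)).symm)).toEquiv.subsingleton_congr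
  exact h

theorem surjective_globalOf_iff (E : GrLC.StarInjRes 𝒮 ℳ) (d : ℕ) :
    Function.Surjective (fun m : ↥(ℳ ((d : ℕ) : ℤ)) => GrTilde.globalOf GR (fun n : ℕ => ℳ (n : ℤ)) m) ↔
      E.Hcomp 𝔞 1 (d : ℤ) = ⊥ := by
  haveI := noetherianSpace_proj (k := k) (r := r)
  exact surjective_glob_iff base_std E 𝔞 irrel_eq_span_X (d : ℤ)

/-- No graded local cohomology above the number of variables. -/
theorem van_of_gt [Module.Finite (MvPolynomial (Fin (r + 1)) k) M] {i : ℕ} (hi : r + 1 < i) (g : ℤ) :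
    GrLC21.Van 𝔞 i g (GrLC21.toGMod 𝒮 ℳ) := by
  obtain ⟨F, hF⟩ := GrSyzLib.exists_freeRes_isMinimal (k := k) (σ := Fin (r + 1)) (M := M) (ℳ := ℳ)
  have hn := GrLC21.exists_length F hF
  suffices H : ∀ m j : ℕ, r + 2 ≤ j + m → ∀ i, r + 1 < i → GrLC21.Van 𝔞 i g (GrLC21.syz F j) from
    H (r + 2) 0 (by omega) i hi
  intro m
  induction m with
  | zero =>
    intro j hj i _
    have := GrLC21.subsingleton_syz F hn (by omega : r + 1 + 1 ≤ j)
    exact GrLC21.van_of_subsingleton i g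
  | succ m ih =>
    intro j hj i hi
    exact GrLC21.Van.right (GrLC21.syzSeq F j) (GrLC21.van_freeMod _ fun c => GrLC21.van_polyMod.1 _ _ (by omega))
      (ih (j + 1) (by omega) (i + 1) (by omega))

end Groth.Agent.GrLCSheaf21
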